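import Mathlib
import Cfsg.Agent.Lib.Helper73.D8S4

/-!
# Primitive groups with a suborbit of length three: identification of the point stabilizer

Abstract core for S3685: `P` a subgroup of a finite group `G`, `s : G`, `P₁ = s P s⁻¹`,
`|P| = 2 ^ k * 3` with `k ≤ 4`, `P ∩ P₁` of index `3` in `P`, `⟨P, P₁⟩ = G` and no nontrivial
normal subgroup of `G` inside `P`.  Then `P` is `C₃`, `S₃`, `D₁₂`, `S₄` or `S₄ × C₂`.
The four recognition statements for groups of order `12`, `24`, `8`, `48` are hypotheses here.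
-/

set_option autoImplicit false

universe u

namespace Cfsg.Agent.Lib.Helper67.Sub3

/-- recognition of `D₁₂` -/
def PKD12 : Prop := ∀ (H : Type u) [Group H] [Finite H], Nat.card H = 12 →
  ∀ T : Subgroup H, Nat.card T = 4 → ¬ T.Normal → ∀ z σ : H, z ∈ T → σ ∈ T → z ≠ 1 → z * z = 1 →
    (∀ g : H, g * z = z * g) → σ ≠ 1 → σ ≠ z → σ * σ = 1 → Nonempty (H ≃* DihedralGroup 6)

/-- recognition of `S₄` -/
def PK24 : Prop := ∀ (H : Type u) [Group H] [Finite H], Nat.card H = 24 →
  ∀ (K : Subgroup H) [K.Normal], Nat.card K = 4 →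
    (∀ ρ : H, orderOf ρ = 3 → ∃ x ∈ K, ρ * x ≠ x * ρ) →
    (∀ N : Subgroup H, N.Normal → IsPGroup 2 N → N ≤ K) → Nonempty (H ≃* Equiv.Perm (Fin 4))

/-- groups of order `8` with an automorphism of order `3` -/
def PK8 : Prop := ∀ (H : Type u) [Group H] (K : Subgroup H) [Finite K], Nat.card K = 8 →
  ∀ ρ : H, ρ ^ 3 = 1 → (∀ x ∈ K, ρ * x * ρ⁻¹ ∈ K) → (∃ x ∈ K, ρ * x ≠ x * ρ) →
    (∀ x ∈ K, x * x = 1) ∨ ∃ c ∈ K, c ≠ 1 ∧ ∀ x ∈ K, x * x = 1 → x = 1 ∨ x = c

/-- recognition of `S₄ × C₂` -/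
def PK48 : Prop := ∀ (H : Type u) [Group H] [Finite H], Nat.card H = 48 →
  ∀ (K : Subgroup H) [K.Normal], Nat.card K = 8 → (∀ x ∈ K, x * x = 1) →
    (∀ ρ : H, orderOf ρ = 3 → ∃ x ∈ K, ρ * x ≠ x * ρ) → ∀ τ : H, τ * τ = 1 → τ ∉ K →
    (∀ N : Subgroup H, N.Normal → IsPGroup 2 N → N ≤ K) →
    Nonempty (H ≃* Equiv.Perm (Fin 4) × Multiplicative (ZMod 2))

variable {G : Type u} [Group G]

/-- the conjugate subgroup `s H s⁻¹` -/
abbrev cj (s : G) (H : Subgroup G) : Subgroup G := H.map (MulAut.conj s).toMonoidHom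

theorem mem_cj {s : G} {H : Subgroup G} {x : G} : x ∈ cj s H ↔ s⁻¹ * x * s ∈ H := by
  rw [cj, Subgroup.mem_map_equiv, MulAut.conj_symm_apply]

theorem conj_mem_cj {s : G} {H : Subgroup G} {y : G} (hy : y ∈ H) : s * y * s⁻¹ ∈ cj s H := by
  rw [mem_cj]
  have : s⁻¹ * (s * y * s⁻¹) * s = y := by group
  rwa [this]

theorem exists_of_mem_cj {s : G} {H : Subgroup G} {x : G} (hx : x ∈ cj s H) :
    ∃ y ∈ H, x = s * y * s⁻¹ :=
  ⟨s⁻¹ * x * s, mem_cj.mp hx, by group⟩

theorem card_cj [Finite G] (s : G) (H : Subgroup G) : Nat.card (cj s H) = Nat.card H :=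
  Subgroup.card_map_of_injective (MulAut.conj s).injective

theorem cj_mono {s : G} {H K : Subgroup G} (h : H ≤ K) : cj s H ≤ cj s K := Subgroup.map_mono h

theorem le_normalizer_of_forall {H N : Subgroup G}
    (h : ∀ p ∈ H, ∀ x ∈ N, p * x * p⁻¹ ∈ N) : H ≤ Subgroup.normalizer (N : Set G) := by
  intro p hp
  rw [Subgroup.mem_normalizer_iff]
  intro x
  constructor
  · exact h p hp x
  · intro hx
    have h1 := h p⁻¹ (inv_mem hp) _ hx
    have h2 : p⁻¹ * (p * x * p⁻¹) * p⁻¹⁻¹ = x := by group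
    rwa [h2] at h1

theorem eq_bot_of_normalized {P P1 : Subgroup G} (hgen : P ⊔ P1 = ⊤)
    (hcore : ∀ N : Subgroup G, N.Normal → N ≤ P → N = ⊥) (N : Subgroup G) (hNP : N ≤ P)
    (h0 : ∀ p ∈ P, ∀ x ∈ N, p * x * p⁻¹ ∈ N) (h1 : ∀ p ∈ P1, ∀ x ∈ N, p * x * p⁻¹ ∈ N) :
    N = ⊥ := by
  have h : Subgroup.normalizer (N : Set G) = ⊤ := by
    apply top_le_iff.mp
    rw [← hgen]
    exact sup_le (le_normalizer_of_forall h0) (le_normalizer_of_forall h1)
  exact hcore N (Subgroup.normalizer_eq_top_iff.mp h) hNP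

theorem le_of_normal_two_group [Finite G] {P1 T N : Subgroup G} {k : ℕ} (hT : T ≤ P1)
    (hTc : Nat.card T = 2 ^ k) (hP1 : Nat.card P1 = 2 ^ k * 3) (hN : N ≤ P1)
    (hN2 : IsPGroup 2 N) (hnorm : ∀ p ∈ P1, ∀ x ∈ N, p * x * p⁻¹ ∈ N) : N ≤ T := by
  have hTN : T ≤ Subgroup.normalizer (N : Set G) := le_normalizer_of_forall (fun p hp => hnorm p (hT hp))
  have hT2 : IsPGroup 2 T := IsPGroup.of_card hTc
  have hJ : IsPGroup 2 (T ⊔ N : Subgroup G) := IsPGroup.to_sup_of_normal_right' hT2 hN2 hTN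
  obtain ⟨m, hm⟩ := IsPGroup.iff_card.mp hJ
  have hJle : T ⊔ N ≤ P1 := sup_le hT hN
  have hdvd : Nat.card (T ⊔ N : Subgroup G) ∣ Nat.card P1 := Subgroup.card_dvd_of_le hJle
  rw [hm, hP1] at hdvd
  have hcop : Nat.Coprime (2 ^ m) 3 := Nat.Coprime.pow_left m (by norm_num)
  have h2 : 2 ^ m ∣ 2 ^ k := hcop.dvd_of_dvd_mul_right hdvd
  have hle : Nat.card (T ⊔ N : Subgroup G) ≤ Nat.card T := by
    rw [hm, hTc]
    exact Nat.le_of_dvd (by positivity) h2
  have h3 : T = T ⊔ N := Subgroup.eq_of_le_of_card_ge le_sup_left hle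
  rw [h3]
  exact le_sup_right

theorem sup_zpowers_eq [Finite G] {P T : Subgroup G} {k : ℕ} (hTP : T ≤ P)
    (hTc : Nat.card T = 2 ^ k) (hP : Nat.card P = 2 ^ k * 3) {ρ : G} (hρP : ρ ∈ P)
    (hρ : orderOf ρ = 3) : T ⊔ Subgroup.zpowers ρ = P := by
  have hle : T ⊔ Subgroup.zpowers ρ ≤ P := sup_le hTP (by rwa [Subgroup.zpowers_le])
  apply Subgroup.eq_of_le_of_card_ge hle
  have h1 : Nat.card T ∣ Nat.card (T ⊔ Subgroup.zpowers ρ : Subgroup G) :=
    Subgroup.card_dvd_of_le le_sup_left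
  have h2 : Nat.card (Subgroup.zpowers ρ) ∣ Nat.card (T ⊔ Subgroup.zpowers ρ : Subgroup G) :=
    Subgroup.card_dvd_of_le le_sup_right
  rw [Nat.card_zpowers, hρ] at h2
  rw [hTc] at h1
  have hcop : Nat.Coprime (2 ^ k) 3 := Nat.Coprime.pow_left k (by norm_num)
  have h3 : 2 ^ k * 3 ∣ Nat.card (T ⊔ Subgroup.zpowers ρ : Subgroup G) :=
    hcop.mul_dvd_of_dvd_of_dvd h1 h2
  rw [hP]
  exact Nat.le_of_dvd Nat.card_pos h3


theorem cj_normalized {s : G} {P N : Subgroup G} (h : ∀ p ∈ P, ∀ x ∈ N, p * x * p⁻¹ ∈ N) :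
    ∀ p ∈ cj s P, ∀ x ∈ cj s N, p * x * p⁻¹ ∈ cj s N := by
  intro p hp x hx
  obtain ⟨q, hq, rfl⟩ := exists_of_mem_cj hp
  obtain ⟨y, hy, rfl⟩ := exists_of_mem_cj hx
  have h1 : s * q * s⁻¹ * (s * y * s⁻¹) * (s * q * s⁻¹)⁻¹ = s * (q * y * q⁻¹) * s⁻¹ := by group
  rw [h1]
  exact conj_mem_cj (h q hq y hy)

theorem eq_one_or_eq_of_card_two {K : Subgroup G} (hK : Nat.card K = 2) {z x : G}
    (hz : z ∈ K) (hz1 : z ≠ 1) (hx : x ∈ K) : x = 1 ∨ x = z := by
  by_contra hcon
  push_neg at hcon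
  obtain ⟨y, _, hy⟩ := (Nat.card_eq_two_iff' (1 : K)).mp hK
  have h1 : (⟨z, hz⟩ : K) = y := hy _ (fun h => hz1 (congrArg Subtype.val h))
  have h2 : (⟨x, hx⟩ : K) = y := hy _ (fun h => hcon.1 (congrArg Subtype.val h))
  exact hcon.2 (congrArg Subtype.val (h2.trans h1.symm))

theorem sq_eq_one_of_card_two {K : Subgroup G} (hK : Nat.card K = 2) {x : G}
    (hx : x ∈ K) : x * x = 1 := by
  have h := pow_card_eq_one' (G := K) (x := ⟨x, hx⟩)
  rw [hK] at h
  have h2 := congrArg Subtype.val h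
  simpa [pow_two] using h2


theorem mem_normalizer_of_centralizes {D K : Subgroup G} (hDK : D ≤ K) {ρ : G}
    (hc : ∀ x ∈ K, ρ * x = x * ρ) : ρ ∈ Subgroup.normalizer (D : Set G) := by
  rw [Subgroup.mem_normalizer_iff]
  intro x
  constructor
  · intro hx
    have h1 : ρ * x * ρ⁻¹ = x := by rw [hc x (hDK hx)]; group
    rwa [h1]
  · intro hx
    have h2 := hc _ (hDK hx)
    have h3 : ρ * (ρ * x * ρ⁻¹) = ρ * x := by rw [h2]; group
    have h1 : ρ * x * ρ⁻¹ = x := mul_left_cancel h3
    rwa [h1] at hx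

theorem two_le_two_pow {j : ℕ} (hj : j ≠ 0) : 2 ≤ 2 ^ j := by
  calc 2 = 2 ^ 1 := by norm_num
    _ ≤ 2 ^ j := Nat.pow_le_pow_right (by norm_num) (Nat.one_le_iff_ne_zero.mpr hj)

/-- The abstract amalgam core. -/
theorem amalgam_core (hD12 : PKD12.{u}) (h24 : PK24.{u}) (h8 : PK8.{u}) (h48 : PK48.{u})
    [Finite G] (P : Subgroup G) (s : G) (k : ℕ) (hk : k ≤ 4)
    (hcard : Nat.card P = 2 ^ k * 3)
    (hidx : (P ⊓ cj s P).relIndex P = 3)
    (hgen : P ⊔ cj s P = ⊤)
    (hcore : ∀ N : Subgroup G, N.Normal → N ≤ P → N = ⊥) :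
    Nonempty (P ≃* Multiplicative (ZMod 3)) ∨ Nonempty (P ≃* Equiv.Perm (Fin 3)) ∨
      Nonempty (P ≃* DihedralGroup 6) ∨ Nonempty (P ≃* Equiv.Perm (Fin 4)) ∨
      Nonempty (P ≃* Equiv.Perm (Fin 4) × Multiplicative (ZMod 2)) := by
  classical
  obtain ⟨P1, hP1def⟩ : ∃ P1, P1 = cj s P := ⟨_, rfl⟩
  obtain ⟨T, hTdef⟩ : ∃ T, T = P ⊓ P1 := ⟨_, rfl⟩
  rw [← hP1def] at hgen hidx
  rw [← hTdef] at hidx
  have hTP : T ≤ P := hTdef ▸ inf_le_left
  have hTP1 : T ≤ P1 := hTdef ▸ inf_le_right
  have hP1c : Nat.card P1 = 2 ^ k * 3 := by rw [hP1def, card_cj, hcard]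
  obtain ⟨T', hT'def⟩ : ∃ T' : Subgroup P, T' = T.subgroupOf P := ⟨_, rfl⟩
  have hT'idx : T'.index = 3 := by rw [hT'def]; exact hidx
  have hT'c : Nat.card T' = Nat.card T := by
    rw [hT'def]; exact Nat.card_congr (Subgroup.subgroupOfEquivOfLe hTP).toEquiv
  have hTc : Nat.card T = 2 ^ k := by
    have h := Subgroup.card_mul_index T'
    rw [hT'idx, hT'c, hcard] at h
    omega
  have hT2 : IsPGroup 2 T := IsPGroup.of_card hTc
  -- the core of `T` in `P`
  obtain ⟨K', hK'def⟩ : ∃ K' : Subgroup P, K' = T'.normalCore := ⟨_, rfl⟩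
  have hK'n : K'.Normal := by rw [hK'def]; infer_instance
  obtain ⟨K0, hK0def⟩ : ∃ K0 : Subgroup G, K0 = K'.map P.subtype := ⟨_, rfl⟩
  have hK'T' : K' ≤ T' := by rw [hK'def]; exact Subgroup.normalCore_le T'
  have hmemK0 : ∀ x : P, (x : G) ∈ K0 ↔ x ∈ K' := by
    intro x
    rw [hK0def]
    constructor
    · rintro ⟨y, hy, hyx⟩
      have : y = x := Subtype.ext hyx
      rwa [← this]
    · intro hx
      exact ⟨x, hx, rfl⟩
  have hK0P : K0 ≤ P := by
    intro x hx
    rw [hK0def] at hx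
    obtain ⟨y, _, rfl⟩ := hx
    exact y.2
  have hK0T : K0 ≤ T := by
    intro x hx
    have h1 := (hmemK0 ⟨x, hK0P hx⟩).mp hx
    have h2 := hK'T' h1
    rw [hT'def, Subgroup.mem_subgroupOf] at h2
    exact h2
  have hK0n : ∀ p ∈ P, ∀ x ∈ K0, p * x * p⁻¹ ∈ K0 := by
    intro p hp x hx
    have h1 := (hmemK0 ⟨x, hK0P hx⟩).mp hx
    have h2 := hK'n.conj_mem _ h1 ⟨p, hp⟩
    exact (hmemK0 _).mpr h2
  have hK0max : ∀ N : Subgroup G, N ≤ T → (∀ p ∈ P, ∀ x ∈ N, p * x * p⁻¹ ∈ N) → N ≤ K0 := by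
    intro N hNT hN x hx
    have hNn : (N.subgroupOf P).Normal := by
      constructor
      intro n hn g
      rw [Subgroup.mem_subgroupOf] at hn ⊢
      exact hN g g.2 n hn
    have hle : N.subgroupOf P ≤ K' := by
      rw [hK'def]
      apply Subgroup.normal_le_normalCore.mpr
      intro y hy
      rw [Subgroup.mem_subgroupOf] at hy
      rw [hT'def, Subgroup.mem_subgroupOf]
      exact hNT hy
    have hxP : x ∈ P := hTP (hNT hx)
    exact (hmemK0 ⟨x, hxP⟩).mpr (hle (Subgroup.mem_subgroupOf.mpr hx))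
  have hK0c : Nat.card K0 = Nat.card K' := by
    rw [hK0def]; exact Subgroup.card_map_of_injective P.subtype_injective
  have hK02 : IsPGroup 2 K0 := hT2.to_le hK0T
  -- normal 2-subgroups of `P` lie in `K'`
  have hcoreP : ∀ N : Subgroup P, N.Normal → IsPGroup 2 N → N ≤ K' := by
    intro N hNn hN2 x hx
    have h1 : N.map P.subtype ≤ T := by
      apply le_of_normal_two_group hTP hTc hcard
      · rintro y ⟨w, _, rfl⟩
        exact w.2
      · exact hN2.map P.subtype
      · rintro p hp y ⟨w, hw, rfl⟩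
        exact ⟨⟨p, hp⟩ * w * ⟨p, hp⟩⁻¹, hNn.conj_mem w hw ⟨p, hp⟩, rfl⟩
    have h2 : N.map P.subtype ≤ K0 := by
      apply hK0max _ h1
      rintro p hp y ⟨w, hw, rfl⟩
      exact ⟨⟨p, hp⟩ * w * ⟨p, hp⟩⁻¹, hNn.conj_mem w hw ⟨p, hp⟩, rfl⟩
    exact (hmemK0 x).mp (h2 ⟨x, hx, rfl⟩)
  -- the index of the core
  have hK'idx : K'.index = 3 ∨ K'.index = 6 := by
    have h3 : 3 ∣ K'.index := by rw [← hT'idx]; exact Subgroup.index_dvd_of_le hK'T'
    have h6 : K'.index ∣ 6 := by
      have hker : K' = (MulAction.toPermHom P (P ⧸ T')).ker := by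
        rw [hK'def]; exact Subgroup.normalCore_eq_ker T'
      rw [hker, Subgroup.index_ker]
      have h := Subgroup.card_subgroup_dvd_card (MulAction.toPermHom P (P ⧸ T')).range
      rw [Nat.card_perm] at h
      have h3' : Nat.card (P ⧸ T') = 3 := hT'idx
      rw [h3'] at h
      exact h
    have hle : K'.index ≤ 6 := Nat.le_of_dvd (by norm_num) h6
    generalize K'.index = n at h3 h6 hle
    interval_cases n <;> omega
  have hK'ci := Subgroup.card_mul_index K'
  rw [hcard] at hK'ci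
  rcases hK'idx with hi3 | hi6
  · -- `T` is normal in `P`
    left
    rw [hi3] at hK'ci
    have hK0Teq : K0 = T := by
      apply Subgroup.eq_of_le_of_card_ge hK0T
      rw [hK0c, hTc]
      omega
    have hTn : ∀ p ∈ P, ∀ x ∈ T, p * x * p⁻¹ ∈ T := by rw [← hK0Teq]; exact hK0n
    have hcjT : cj s T ≤ T := by
      apply le_of_normal_two_group hTP1 hTc hP1c
      · rw [hP1def]; exact cj_mono hTP
      · exact IsPGroup.of_card (by rw [card_cj, hTc])
      · rw [hP1def]; exact cj_normalized hTn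
    have hcjTeq : cj s T = T := Subgroup.eq_of_le_of_card_ge hcjT (by rw [card_cj])
    have hTbot : T = ⊥ := by
      apply eq_bot_of_normalized hgen hcore T hTP hTn
      have h := cj_normalized (s := s) hTn
      rw [hcjTeq, ← hP1def] at h
      exact h
    have hk0 : k = 0 := by
      rw [hTbot, Subgroup.card_bot] at hTc
      by_contra hne
      have : 2 ≤ 2 ^ k := by
        calc 2 = 2 ^ 1 := by norm_num
          _ ≤ 2 ^ k := Nat.pow_le_pow_right (by norm_num) (Nat.one_le_iff_ne_zero.mpr hne)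
      omega
    subst hk0
    have : Fact (Nat.Prime 3) := ⟨Nat.prime_three⟩
    have hc3 : Nat.card (Multiplicative (ZMod 3)) = 3 := by
      rw [Nat.card_eq_fintype_card]; rfl
    exact ⟨mulEquivOfPrimeCardEq (p := 3) (by simpa using hcard) hc3⟩
  · right
    rw [hi6] at hK'ci
    have hk1 : 1 ≤ k := by
      rcases Nat.eq_zero_or_pos k with h0 | h0
      · subst h0; omega
      · exact h0
    obtain ⟨j, rfl⟩ : ∃ j, k = j + 1 := ⟨k - 1, by omega⟩
    have hK'c : Nat.card K' = 2 ^ j := by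
      rw [pow_succ] at hK'ci
      have h : Nat.card K' * 6 = 2 ^ j * 6 := by linarith
      exact Nat.eq_of_mul_eq_mul_right (by norm_num) h
    have hK0c2 : Nat.card K0 = 2 ^ j := by rw [hK0c, hK'c]
    obtain ⟨K1, hK1def⟩ : ∃ K1, K1 = cj s K0 := ⟨_, rfl⟩
    have hK1c : Nat.card K1 = 2 ^ j := by rw [hK1def, card_cj, hK0c2]
    have hK1P1 : K1 ≤ P1 := by rw [hK1def, hP1def]; exact cj_mono hK0P
    have hK1n : ∀ p ∈ P1, ∀ x ∈ K1, p * x * p⁻¹ ∈ K1 := by
      rw [hK1def, hP1def]; exact cj_normalized hK0n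
    have hK1T : K1 ≤ T :=
      le_of_normal_two_group hTP1 hTc hP1c hK1P1 (IsPGroup.of_card hK1c) hK1n
    by_cases h1 : K1 = K0
    · -- `K0 = ⊥`, `P ≅ S₃`
      left
      have hK0bot : K0 = ⊥ := by
        apply eq_bot_of_normalized hgen hcore K0 hK0P hK0n
        rw [h1] at hK1n
        exact hK1n
      have hj0 : j = 0 := by
        rw [hK0bot, Subgroup.card_bot] at hK0c2
        by_contra hne
        have := two_le_two_pow hne
        omega
      subst hj0
      have hK'bot : K' = ⊥ := by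
        apply (Subgroup.eq_bot_iff_card K').mpr
        rw [hK'c]; rfl
      have hinj : Function.Injective (MulAction.toPermHom P (P ⧸ T')) := by
        rw [← MonoidHom.ker_eq_bot_iff, ← Subgroup.normalCore_eq_ker, ← hK'def]
        exact hK'bot
      exact Cfsg.Agent.Lib.Helper73.perm_iso_of_hom (MulAction.toPermHom P (P ⧸ T')) 3 hT'idx
        (by rw [hcard]; rfl) hinj
    · right
      have hτ : ∃ τ ∈ K1, τ ∉ K0 := by
        by_contra hcon
        push_neg at hcon
        exact h1 (Subgroup.eq_of_le_of_card_ge hcon (by rw [hK0c2, hK1c]))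
      obtain ⟨τ, hτK1, hτK0⟩ := hτ
      have hj1 : 1 ≤ j := by
        by_contra hcon
        have hj0 : j = 0 := by omega
        subst hj0
        have e0 : K0 = ⊥ := (Subgroup.eq_bot_iff_card K0).mpr (by rw [hK0c2]; rfl)
        have e1 : K1 = ⊥ := (Subgroup.eq_bot_iff_card K1).mpr (by rw [hK1c]; rfl)
        exact h1 (e1.trans e0.symm)
      obtain ⟨D, hDdef⟩ : ∃ D, D = K0 ⊓ K1 := ⟨_, rfl⟩
      have hDK0 : D ≤ K0 := hDdef ▸ inf_le_left
      have hDK1 : D ≤ K1 := hDdef ▸ inf_le_right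
      have hDne : 2 ≤ j → D ≠ ⊥ := by
        intro hj2 hDbot
        have hdisj : Disjoint K0 K1 := by rw [disjoint_iff, ← hDdef]; exact hDbot
        have hinj := Subgroup.mul_injective_of_disjoint hdisj
        have hinj' : Function.Injective (fun g : K0 × K1 =>
            (⟨(g.1 : G) * g.2, mul_mem (hK0T g.1.2) (hK1T g.2.2)⟩ : T)) := by
          intro a b hab
          exact hinj (congrArg Subtype.val hab)
        have hle := Nat.card_le_card_of_injective _ hinj'
        rw [Nat.card_prod, hK0c2, hK1c, hTc] at hle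
        have h2 : 2 ^ (j + j) ≤ 2 ^ (j + 1) := by rw [pow_add]; exact hle
        have h3 := (Nat.pow_le_pow_iff_right (by norm_num : 1 < 2)).mp h2
        omega
      have hanti : 2 ≤ j → ∀ ρ ∈ P, orderOf ρ = 3 → ∃ x ∈ K0, ρ * x ≠ x * ρ := by
        intro hj2 ρ hρP hρ
        by_contra hcon
        push_neg at hcon
        apply hDne hj2
        have hDT : ∀ t ∈ T, ∀ x ∈ D, t * x * t⁻¹ ∈ D := by
          intro t ht x hx
          rw [hDdef] at hx ⊢
          exact ⟨hK0n t (hTP ht) x hx.1, hK1n t (hTP1 ht) x hx.2⟩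
        have hTN : T ≤ Subgroup.normalizer (D : Set G) := le_normalizer_of_forall hDT
        have hρN : ρ ∈ Subgroup.normalizer (D : Set G) := mem_normalizer_of_centralizes hDK0 hcon
        have hPN : P ≤ Subgroup.normalizer (D : Set G) := by
          rw [← sup_zpowers_eq hTP hTc hcard hρP hρ]
          exact sup_le hTN (by rwa [Subgroup.zpowers_le])
        have hρ1P1 : s * ρ * s⁻¹ ∈ P1 := by rw [hP1def]; exact conj_mem_cj hρP
        have hρ1 : orderOf (s * ρ * s⁻¹) = 3 := by
          rw [← hρ]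
          have hsc : SemiconjBy s ρ (s * ρ * s⁻¹) := by
            unfold SemiconjBy; group
          exact (hsc.orderOf_eq).symm
        have hc1 : ∀ x ∈ K1, s * ρ * s⁻¹ * x = x * (s * ρ * s⁻¹) := by
          intro x hx
          rw [hK1def] at hx
          obtain ⟨y, hy, rfl⟩ := exists_of_mem_cj hx
          have hy2 := hcon y hy
          calc s * ρ * s⁻¹ * (s * y * s⁻¹) = s * (ρ * y) * s⁻¹ := by group
            _ = s * (y * ρ) * s⁻¹ := by rw [hy2]
            _ = s * y * s⁻¹ * (s * ρ * s⁻¹) := by group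
        have hρ1N : s * ρ * s⁻¹ ∈ Subgroup.normalizer (D : Set G) :=
          mem_normalizer_of_centralizes hDK1 hc1
        have hP1N : P1 ≤ Subgroup.normalizer (D : Set G) := by
          rw [← sup_zpowers_eq hTP1 hTc hP1c hρ1P1 hρ1]
          exact sup_le hTN (by rwa [Subgroup.zpowers_le])
        apply eq_bot_of_normalized hgen hcore D (hDK0.trans hK0P)
        · intro p hp x hx
          exact (Subgroup.mem_normalizer_iff.mp (hPN hp) x).mp hx
        · intro p hp x hx
          exact (Subgroup.mem_normalizer_iff.mp (hP1N hp) x).mp hx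
      have hcentP : 2 ≤ j → ∀ ρ : P, orderOf ρ = 3 → ∃ x ∈ K', ρ * x ≠ x * ρ := by
        intro hj2 ρ hρ
        obtain ⟨x, hx, hne⟩ := hanti hj2 ρ ρ.2 (by rw [Subgroup.orderOf_coe]; exact hρ)
        exact ⟨⟨x, hK0P hx⟩, (hmemK0 _).mp hx, fun h => hne (congrArg Subtype.val h)⟩
      have hτP : τ ∈ P := hTP (hK1T hτK1)
      have hj3 : j ≤ 3 := by omega
      interval_cases j
      · -- `k = 2`, `D₁₂`
        left
        have hT'nn : ¬ T'.Normal := by
          intro hn
          have hle : T' ≤ K' := by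
            rw [hK'def]
            exact Subgroup.normal_le_normalCore.mpr le_rfl
          have h2 := Subgroup.card_le_of_le hle
          rw [hT'c, hTc, hK'c] at h2
          norm_num at h2
        obtain ⟨y, hy1, _⟩ := (Nat.card_eq_two_iff' (1 : K0)).mp (by rw [hK0c2]; rfl)
        have hz : (y : G) ∈ K0 := y.2
        have hz1 : (y : G) ≠ 1 := fun h => hy1 (Subtype.ext h)
        have hK0two : Nat.card K0 = 2 := by rw [hK0c2]; rfl
        have hK1two : Nat.card K1 = 2 := by rw [hK1c]; rfl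
        refine hD12 P hcard T' (by rw [hT'c, hTc]; rfl) hT'nn ⟨(y : G), hK0P hz⟩ ⟨τ, hτP⟩ ?_ ?_ ?_ ?_ ?_
          ?_ ?_ ?_
        · rw [hT'def, Subgroup.mem_subgroupOf]; exact hK0T hz
        · rw [hT'def, Subgroup.mem_subgroupOf]; exact hK1T hτK1
        · exact fun h => hz1 (congrArg Subtype.val h)
        · exact Subtype.ext (sq_eq_one_of_card_two hK0two hz)
        · intro g
          have h := hK0n g g.2 _ hz
          rcases eq_one_or_eq_of_card_two hK0two hz hz1 h with h2 | h2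
          · exfalso
            apply hz1
            have h3 : (y : G) = (g : G)⁻¹ * ((g : G) * y * (g : G)⁻¹) * g := by group
            rw [h3, h2]; group
          · apply Subtype.ext
            have h3 : (g : G) * y = (g : G) * y * (g : G)⁻¹ * g := by group
            change (g : G) * y = y * g
            rw [h3, h2]
        · intro h
          have h2 : τ = 1 := congrArg Subtype.val h
          exact hτK0 (by rw [h2]; exact one_mem _)
        · intro h
          have h2 : τ = (y : G) := congrArg Subtype.val h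
          exact hτK0 (by rw [h2]; exact hz)
        · exact Subtype.ext (sq_eq_one_of_card_two hK1two hτK1)
      · -- `k = 3`, `S₄`
        right; left
        exact h24 P hcard K' hK'c (hcentP le_rfl) hcoreP
      · -- `k = 4`, `S₄ × C₂`
        right; right
        have : Fact (Nat.Prime 3) := ⟨Nat.prime_three⟩
        obtain ⟨ρ, hρ⟩ := exists_prime_orderOf_dvd_card' (G := P) 3 (by rw [hcard]; norm_num)
        have hρG : orderOf (ρ : G) = 3 := by rw [Subgroup.orderOf_coe]; exact hρ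
        have hρ3 : (ρ : G) ^ 3 = 1 := by rw [← hρG]; exact pow_orderOf_eq_one _
        rcases h8 G K0 hK0c2 (ρ : G) hρ3 (hK0n ρ ρ.2) (hanti (by norm_num) ρ ρ.2 hρG) with
          hexp | ⟨c, hcK0, hc1, hcuniq⟩
        · have hτ2 : τ * τ = 1 := by
            rw [hK1def] at hτK1
            obtain ⟨y, hy, rfl⟩ := exists_of_mem_cj hτK1
            have hyy := hexp y hy
            calc s * y * s⁻¹ * (s * y * s⁻¹) = s * (y * y) * s⁻¹ := by group
              _ = 1 := by rw [hyy]; group
          exact h48 P hcard K' hK'c (fun x hx => Subtype.ext (hexp x ((hmemK0 x).mpr hx)))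
            (hcentP (by norm_num)) ⟨τ, hτP⟩ (Subtype.ext hτ2)
            (fun h => hτK0 ((hmemK0 _).mpr h)) hcoreP
        · exfalso
          have hDne' := hDne (by norm_num)
          have hD2 : 2 ∣ Nat.card D := by
            obtain ⟨m, hm⟩ := IsPGroup.iff_card.mp (hK02.to_le hDK0)
            rw [hm]
            have hm0 : m ≠ 0 := by
              rintro rfl
              exact hDne' ((Subgroup.eq_bot_iff_card D).mpr hm)
            exact dvd_pow_self 2 hm0
          have : Fact (Nat.Prime 2) := ⟨Nat.prime_two⟩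
          obtain ⟨d, hd⟩ := exists_prime_orderOf_dvd_card' (G := D) 2 hD2
          have hdd : (d : G) * d = 1 := by
            have h := pow_orderOf_eq_one d
            rw [hd] at h
            have h2 := congrArg Subtype.val h
            simpa [pow_two] using h2
          have hd1 : (d : G) ≠ 1 := by
            intro h
            have h2 : d = 1 := Subtype.ext h
            rw [h2, orderOf_one] at hd
            norm_num at hd
          have hdc : (d : G) = c := (hcuniq d (hDK0 d.2) hdd).resolve_left hd1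
          have hc1uniq : ∀ x ∈ K1, x * x = 1 → x = 1 ∨ x = s * c * s⁻¹ := by
            intro x hx hxx
            rw [hK1def] at hx
            obtain ⟨y, hy, rfl⟩ := exists_of_mem_cj hx
            have hyy : y * y = 1 := by
              have h3 : y * y = s⁻¹ * (s * y * s⁻¹ * (s * y * s⁻¹)) * s := by group
              rw [h3, hxx]; group
            rcases hcuniq y hy hyy with h | h
            · left; rw [h]; group
            · right; rw [h]
          have hdc1 : (d : G) = s * c * s⁻¹ := (hc1uniq d (hDK1 d.2) hdd).resolve_left hd1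
          have hcc1 : s * c * s⁻¹ = c := by rw [← hdc1, hdc]
          have hcc : c * c = 1 := by rw [← hdc]; exact hdd
          have hcK1 : c ∈ K1 := by rw [← hdc]; exact hDK1 d.2
          have hconj2 : ∀ p : G, p * c * p⁻¹ * (p * c * p⁻¹) = 1 := by
            intro p
            calc p * c * p⁻¹ * (p * c * p⁻¹) = p * (c * c) * p⁻¹ := by group
              _ = 1 := by rw [hcc]; group
          have hconj1 : ∀ p : G, p * c * p⁻¹ ≠ 1 := by
            intro p h
            apply hc1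
            have h3 : c = p⁻¹ * (p * c * p⁻¹) * p := by group
            rw [h3, h]; group
          have hcP : ∀ p ∈ P, p * c * p⁻¹ = c := by
            intro p hp
            exact (hcuniq _ (hK0n p hp c hcK0) (hconj2 p)).resolve_left (hconj1 p)
          have hcP1 : ∀ p ∈ P1, p * c * p⁻¹ = c := by
            intro p hp
            have h := (hc1uniq _ (hK1n p hp c hcK1) (hconj2 p)).resolve_left (hconj1 p)
            rw [h, hcc1]
          have hz : Subgroup.zpowers c = ⊥ := by
            apply eq_bot_of_normalized hgen hcore _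
              (by rw [Subgroup.zpowers_le]; exact hK0P hcK0)
            · intro p hp x hx
              obtain ⟨n, rfl⟩ := Subgroup.mem_zpowers_iff.mp hx
              have h3 : p * c ^ n * p⁻¹ = (p * c * p⁻¹) ^ n := (conj_zpow).symm
              rw [h3, hcP p hp]
              exact Subgroup.zpow_mem_zpowers c n
            · intro p hp x hx
              obtain ⟨n, rfl⟩ := Subgroup.mem_zpowers_iff.mp hx
              have h3 : p * c ^ n * p⁻¹ = (p * c * p⁻¹) ^ n := (conj_zpow).symm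
              rw [h3, hcP1 p hp]
              exact Subgroup.zpow_mem_zpowers c n
          exact hc1 (Subgroup.zpowers_eq_bot.mp hz)


universe v

/-- S3685 from the conclusion of S3385 and the four recognition statements. -/
theorem s3685_core (hD12 : PKD12.{u}) (h24 : PK24.{u}) (h8 : PK8.{u}) (h48 : PK48.{u})
    {Ω : Type v} [Finite G] [MulAction G Ω] [FaithfulSMul G Ω]
    (hprim : MulAction.IsPreprimitive G Ω) (a b : Ω)
    (h3 : Nat.card (MulAction.orbit (MulAction.stabilizer G a) b) = 3)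
    (h3385 : ∃ k : ℕ, k ≤ 4 ∧ Nat.card ↥(MulAction.stabilizer G a) = 2 ^ k * 3) :
    Nonempty (MulAction.stabilizer G a ≃* Multiplicative (ZMod 3)) ∨
      Nonempty (MulAction.stabilizer G a ≃* Equiv.Perm (Fin 3)) ∨
      Nonempty (MulAction.stabilizer G a ≃* DihedralGroup 6) ∨
      Nonempty (MulAction.stabilizer G a ≃* Equiv.Perm (Fin 4)) ∨
      Nonempty (MulAction.stabilizer G a ≃* Equiv.Perm (Fin 4) × Multiplicative (ZMod 2)) := by
  classical
  obtain ⟨k, hk, hcard⟩ := h3385
  have hpt : MulAction.IsPretransitive G Ω := hprim.toIsPretransitive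
  obtain ⟨s, hs⟩ := MulAction.exists_smul_eq G a b
  have hstab : MulAction.stabilizer G b = cj s (MulAction.stabilizer G a) := by
    rw [← hs]; exact MulAction.stabilizer_smul_eq_stabilizer_map_conj s a
  -- the stabilizer of `b` inside the stabilizer of `a`
  have hsub : (MulAction.stabilizer G b).subgroupOf (MulAction.stabilizer G a)
      = MulAction.stabilizer (MulAction.stabilizer G a) b := by
    ext g
    rw [Subgroup.mem_subgroupOf, MulAction.mem_stabilizer_iff, MulAction.mem_stabilizer_iff]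
    rfl
  have hrel : (MulAction.stabilizer G b).relIndex (MulAction.stabilizer G a) = 3 := by
    unfold Subgroup.relIndex
    rw [hsub, MulAction.index_stabilizer, ← Nat.card_coe_set_eq]
    exact h3
  have hidx : (MulAction.stabilizer G a ⊓ cj s (MulAction.stabilizer G a)).relIndex
      (MulAction.stabilizer G a) = 3 := by
    rw [← hstab, Subgroup.inf_relIndex_left]
    exact hrel
  have hab : a ≠ b := by
    intro h
    subst h
    have h1 : (MulAction.stabilizer G a).relIndex (MulAction.stabilizer G a) = 1 :=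
      Subgroup.relIndex_self _
    omega
  have hnt : Nontrivial Ω := ⟨⟨a, b, hab⟩⟩
  have hco : IsCoatom (MulAction.stabilizer G a) :=
    MulAction.IsPreprimitive.isCoatom_stabilizer_of_isPreprimitive G a
  have hgen : MulAction.stabilizer G a ⊔ cj s (MulAction.stabilizer G a) = ⊤ := by
    apply hco.lt_iff.mp
    apply lt_of_le_of_ne le_sup_left
    intro heq
    have hle : cj s (MulAction.stabilizer G a) ≤ MulAction.stabilizer G a :=
      le_of_le_of_eq le_sup_right heq.symm
    have heq2 : cj s (MulAction.stabilizer G a) = MulAction.stabilizer G a :=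
      Subgroup.eq_of_le_of_card_ge hle (by rw [card_cj])
    rw [hstab, heq2, Subgroup.relIndex_self] at hrel
    omega
  have hcore : ∀ N : Subgroup G, N.Normal → N ≤ MulAction.stabilizer G a → N = ⊥ := by
    intro N hN hNP
    rw [eq_bot_iff]
    intro n hn
    rw [Subgroup.mem_bot]
    apply FaithfulSMul.eq_of_smul_eq_smul (α := Ω)
    intro ω
    obtain ⟨g, rfl⟩ := MulAction.exists_smul_eq G a ω
    rw [one_smul]
    have h1 : g⁻¹ * n * g ∈ MulAction.stabilizer G a := by
      apply hNP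
      have h2 := hN.conj_mem n hn g⁻¹
      rwa [inv_inv] at h2
    rw [MulAction.mem_stabilizer_iff] at h1
    calc n • g • a = g • (g⁻¹ * n * g) • a := by
          rw [← mul_smul, ← mul_smul]; congr 1; group
      _ = g • a := by rw [h1]
  exact amalgam_core hD12 h24 h8 h48 (MulAction.stabilizer G a) s k hk hcard hidx hgen hcore

end Cfsg.Agent.Lib.Helper67.Sub3
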