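import Mathlib
import Cfsg.Agent.Lib.Helper67.Sub3.Core
import Cfsg.Agent.Lib.Helper49.Shunt.SimsCoreFinal
import Cfsg.Agent.Lib.Helper38.Sub3.IsoD12
import Cfsg.Agent.Lib.Helper96.Sub3.IsoS4
import Cfsg.Agent.Lib.Helper22.Sub3.ExpTwo
import Cfsg.Agent.Lib.Helper65.Sub3.IsoS4xC2

/-!
# Sims' theorem in local form (abstract core for S2772)

`H` a finite simple group, `G` a maximal subgroup, `Q ≤ T ≤ G` with `Q` normal in `G`,
`|T| = 2|Q|`, `|G| = 2q|Q|` (`q` an odd prime), `T` a 2-group, `C_G(Q) ≤ Q`, and `x ∉ G`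
normalizing `T`.  Then `G` is `S₄` or `S₄ × C₂`.
-/

set_option autoImplicit false

universe u

namespace Cfsg.Agent.Lib.Helper67.Sub3

open Pointwise

/-- no dihedral group of order `14` acts on a group of order `8` with the rotation fixed point
free -/
def PK7 : Prop := ∀ (H : Type u) [Group H] (Q : Subgroup H), Nat.card Q = 8 → ∀ ρ t : H,
  (∀ v ∈ Q, ρ * v * ρ⁻¹ ∈ Q) → (∀ v ∈ Q, t * v * t⁻¹ ∈ Q) → ρ ^ 7 = 1 →
  (∀ v ∈ Q, ρ * v = v * ρ → v = 1) → t * t ∈ Q → t * ρ * t⁻¹ * ρ ∈ Q → False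

theorem pkD12_inst : PKD12.{u} :=
  fun _ _ _ hcard T hT hTn z σ hzT hσT hz1 hz2 hzc hσ1 hσz hσ2 =>
    Cfsg.Agent.Lib.Helper38.Sub3.iso_D12 hcard T hT hTn z σ hzT hσT hz1 hz2 hzc hσ1 hσz hσ2

theorem pk24_inst : PK24.{u} :=
  fun _ _ _ hcard K _ hK hcent hcore =>
    Cfsg.Agent.Lib.Helper96.Sub3.iso_S4_of_core hcard K hK hcent hcore

theorem pk8_inst : PK8.{u} :=
  fun _ _ K _ hK ρ hρ hnorm hcent =>
    Cfsg.Agent.Lib.Helper22.Sub3.exp_two_or_unique_invol K hK ρ hρ hnorm hcent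

theorem pk48_inst : PK48.{u} :=
  fun _ _ _ hcard K _ hK hK2 hcent τ hτ hτK hcore =>
    Cfsg.Agent.Lib.Helper65.Sub3.iso_S4xC2 hcard K hK hK2 hcent τ hτ hτK hcore

variable {H : Type u} [Group H]

theorem conj_smul_eq_cj (g : H) (T : Subgroup H) : MulAut.conj g • T = cj g T := rfl

theorem cj_mul (a b : H) (T : Subgroup H) : cj (a * b) T = cj a (cj b T) := by
  ext y
  simp only [mem_cj]
  constructor <;> intro h <;> convert h using 1 <;> group

theorem cj_one (T : Subgroup H) : cj 1 T = T := by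
  ext y
  simp only [mem_cj]
  constructor <;> intro h <;> convert h using 1 <;> group

theorem cj_sup (a : H) (A B : Subgroup H) : cj a (A ⊔ B) = cj a A ⊔ cj a B :=
  Subgroup.map_sup _ _ _

theorem cj_eq_of_forall [Finite H] {a : H} {T : Subgroup H} (h : ∀ v ∈ T, a * v * a⁻¹ ∈ T) :
    cj a T = T := by
  apply Subgroup.eq_of_le_of_card_ge
  · intro y hy
    obtain ⟨v, hv, rfl⟩ := exists_of_mem_cj hy
    exact h v hv
  · rw [card_cj]

theorem cj_inv_eq {a : H} {T : Subgroup H} (h : cj a T = T) : cj a⁻¹ T = T := by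
  conv_lhs => rw [← h]
  rw [← cj_mul, inv_mul_cancel, cj_one]

/-- fixed point congruence for conjugation by an element of prime power order on a subgroup it
normalizes -/
theorem card_modEq_card_inf_centralizer {p : ℕ} [Fact p.Prime]
    (K : Subgroup H) [Finite K] (ρ : H) (hρn : ∀ v ∈ K, ρ * v * ρ⁻¹ ∈ K) (hρ : ρ ^ p = 1) :
    Nat.card K ≡ Nat.card (K ⊓ Subgroup.centralizer {ρ} : Subgroup H) [MOD p] := by
  classical
  have : Fintype K := Fintype.ofFinite K
  let f : Function.End K := fun v => ⟨ρ * v * ρ⁻¹, hρn v v.2⟩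
  have hfk : ∀ k : ℕ, ∀ v : K, (((f ^ k) v : K) : H) = ρ ^ k * v * (ρ ^ k)⁻¹ := by
    intro k
    induction k with
    | zero =>
      intro v
      have h0 : (f ^ 0) v = v := by rw [pow_zero]; rfl
      rw [h0]
      simp
    | succ k ih =>
      intro v
      have h1 : (f ^ (k + 1)) v = f ((f ^ k) v) := by
        rw [pow_succ']; rfl
      rw [h1]
      show ρ * (((f ^ k) v : K) : H) * ρ⁻¹ = _
      rw [ih v, pow_succ']
      group
  have hf : f ^ p ^ 1 = 1 := by
    funext v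
    apply Subtype.ext
    rw [pow_one, hfk, hρ]
    show (1 : H) * (v : H) * (1 : H)⁻¹ = (v : H)
    simp
  have hmod := Equiv.Perm.card_fixedPoints_modEq (p := p) (n := 1) hf
  rw [← Nat.card_eq_fintype_card, ← Nat.card_eq_fintype_card] at hmod
  have h2 : Nat.card (Function.fixedPoints f) =
      Nat.card (K ⊓ Subgroup.centralizer {ρ} : Subgroup H) := by
    refine Nat.card_congr
      { toFun := fun x => ⟨x.1.1, x.1.2, ?_⟩
        invFun := fun y => ⟨⟨y.1, y.2.1⟩, ?_⟩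
        left_inv := fun x => rfl
        right_inv := fun y => rfl }
    · have h3 : ρ * (x.1 : H) * ρ⁻¹ = (x.1 : H) := congrArg Subtype.val x.2
      refine Subgroup.mem_centralizer_singleton_iff.mpr ?_
      calc (x.1 : H) * ρ = ρ * (x.1 : H) * ρ⁻¹ * ρ := by rw [h3]
        _ = ρ * (x.1 : H) := by group
    · have h3 := Subgroup.mem_centralizer_singleton_iff.mp y.2.2
      show f ⟨y.1, y.2.1⟩ = ⟨y.1, y.2.1⟩
      refine Subtype.ext ?_
      show ρ * (y : H) * ρ⁻¹ = (y : H)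
      rw [← h3]; group
  rw [h2] at hmod
  exact hmod

theorem card_mul_relIndex_of_le {A B : Subgroup H} (h : A ≤ B) :
    Nat.card A * A.relIndex B = Nat.card B := by
  have h1 := Subgroup.card_mul_index (A.subgroupOf B)
  have h2 : Nat.card (A.subgroupOf B) = Nat.card A :=
    Nat.card_congr (Subgroup.subgroupOfEquivOfLe h).toEquiv
  rw [h2] at h1
  exact h1

theorem mem_normalizer_of_cj_eq {y : H} {T : Subgroup H} (heq : cj y T = T) :
    y ∈ Subgroup.normalizer (T : Set H) := by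
  rw [Subgroup.mem_normalizer_iff]
  intro h
  constructor
  · intro hh
    rw [← heq]
    exact conj_mem_cj hh
  · intro hh
    rw [← heq, mem_cj] at hh
    have h1 : y⁻¹ * (y * h * y⁻¹) * y = h := by group
    rwa [h1] at hh

/-- The abstract core of S2772. -/
theorem s2772_abs (h7 : PK7.{u}) [Finite H] [IsSimpleGroup H]
    (G : Subgroup H) (hG : IsCoatom G) (Q T : Subgroup H) (hQT : Q ≤ T) (hTG : T ≤ G)
    (hQn : G ≤ Subgroup.normalizer (Q : Set H)) (hT2 : IsPGroup 2 T)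
    (q : ℕ) (hq : q.Prime) (hq2 : q ≠ 2)
    (hcardT : Nat.card T = 2 * Nat.card Q) (hcardG : Nat.card G = 2 * q * Nat.card Q)
    (hcent : ∀ g ∈ G, (∀ v ∈ Q, g * v = v * g) → g ∈ Q)
    (x : H) (hxT : ∀ v ∈ T, x * v * x⁻¹ ∈ T) (hxG : x ∉ G)
    (hinv : ∀ ρ ∈ G, ∀ t ∈ T, t ∉ Q → orderOf ρ = q → t * ρ * t⁻¹ * ρ ∈ Q) :
    Nonempty (↥G ≃* Equiv.Perm (Fin 4)) ∨
      Nonempty (↥G ≃* Equiv.Perm (Fin 4) × Multiplicative (ZMod 2)) := by
  classical
  have hqF : Fact q.Prime := ⟨hq⟩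
  have hQpos : 0 < Nat.card Q := Nat.card_pos
  -- simplicity and maximality
  have hcoreG : ∀ N : Subgroup H, N.Normal → N ≤ G → N = ⊥ := by
    intro N hN hNG
    rcases hN.eq_bot_or_eq_top with h | h
    · exact h
    · exact absurd (top_le_iff.mp (h ▸ hNG)) hG.1
  have hmax : ∀ L : Subgroup H, G ≤ L → ¬ L ≤ G → L = ⊤ :=
    fun L h1 h2 => hG.2 L (lt_of_le_not_ge h1 h2)
  have hGne : G ≠ ⊥ := by
    intro h
    rw [h, Subgroup.card_bot] at hcardG
    have h2 := hq.two_le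
    have h3 : 2 * 2 * 1 ≤ 2 * q * Nat.card Q :=
      Nat.mul_le_mul (Nat.mul_le_mul (le_refl 2) h2) hQpos
    omega
  have hL1 : ∀ y : H, y ∉ G → ¬ cj y G ≤ G := by
    intro y hy hle
    have heq : cj y G = G := Subgroup.eq_of_le_of_card_ge hle (by rw [card_cj])
    have hyN : y ∈ Subgroup.normalizer (G : Set H) := mem_normalizer_of_cj_eq heq
    have htop : Subgroup.normalizer (G : Set H) = ⊤ :=
      hmax _ Subgroup.le_normalizer (fun hle' => hy (hle' hyN))
    exact hGne (hcoreG G (Subgroup.normalizer_eq_top_iff.mp htop) le_rfl)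
  have hL2 : ∀ Y : Subgroup H, Y ≤ G → ∀ y : H, y ∉ G → G ≤ Subgroup.normalizer (Y : Set H) →
      cj y G ≤ Subgroup.normalizer (Y : Set H) → Y = ⊥ := by
    intro Y hYG y hy h1 h2
    have htop : Subgroup.normalizer (Y : Set H) = ⊤ :=
      hmax _ h1 (fun hle => hL1 y hy (h2.trans hle))
    exact hcoreG Y (Subgroup.normalizer_eq_top_iff.mp htop) hYG
  -- orders
  obtain ⟨t0, ht0⟩ := IsPGroup.iff_card.mp hT2
  have ht0pos : t0 ≠ 0 := by
    intro h
    rw [h, pow_zero] at ht0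
    omega
  obtain ⟨m, rfl⟩ : ∃ m, t0 = m + 1 := ⟨t0 - 1, by omega⟩
  have hQc : Nat.card Q = 2 ^ m := by
    rw [ht0, pow_succ] at hcardT
    omega
  have hTc : Nat.card T = 2 ^ (m + 1) := ht0
  have hGc : Nat.card G = 2 ^ (m + 1) * q := by
    rw [hcardG, hQc, pow_succ]
    ring
  have hcop : Nat.Coprime (2 ^ (m + 1)) q :=
    Nat.Coprime.pow_left _ ((Nat.coprime_primes Nat.prime_two hq).mpr (Ne.symm hq2))
  obtain ⟨ρ', hρ'⟩ := exists_prime_orderOf_dvd_card' (G := ↥G) q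
    (by rw [hGc]; exact dvd_mul_left q _)
  obtain ⟨ρ, hρG, hρq⟩ : ∃ ρ ∈ G, orderOf ρ = q :=
    ⟨(ρ' : H), ρ'.2, by rw [Subgroup.orderOf_coe]; exact hρ'⟩
  have hρQ : ρ ∉ Q := by
    intro h
    have hdvd : orderOf ρ ∣ Nat.card Q := by
      have h1 := orderOf_dvd_natCard (⟨ρ, h⟩ : Q)
      rwa [Subgroup.orderOf_mk] at h1
    rw [hρq, hQc] at hdvd
    exact hq2 ((Nat.prime_dvd_prime_iff_eq hq Nat.prime_two).mp (hq.dvd_of_dvd_pow hdvd))
  have hsup : T ⊔ Subgroup.zpowers ρ = G := by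
    have hle : T ⊔ Subgroup.zpowers ρ ≤ G := sup_le hTG (by rwa [Subgroup.zpowers_le])
    apply Subgroup.eq_of_le_of_card_ge hle
    have h1 : Nat.card T ∣ Nat.card (T ⊔ Subgroup.zpowers ρ : Subgroup H) :=
      Subgroup.card_dvd_of_le le_sup_left
    have h2 : Nat.card (Subgroup.zpowers ρ) ∣ Nat.card (T ⊔ Subgroup.zpowers ρ : Subgroup H) :=
      Subgroup.card_dvd_of_le le_sup_right
    rw [Nat.card_zpowers, hρq] at h2
    rw [hTc] at h1
    have h3 := hcop.mul_dvd_of_dvd_of_dvd h1 h2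
    rw [hGc]
    exact Nat.le_of_dvd Nat.card_pos h3
  have hxT' : cj x T = T := cj_eq_of_forall hxT
  have hxT'' : cj x⁻¹ T = T := cj_inv_eq hxT'
  have hρT : cj ρ T ≠ T := by
    intro heq
    have h1 : G ≤ Subgroup.normalizer (T : Set H) := by
      rw [← hsup]
      exact sup_le Subgroup.le_normalizer
        (by rw [Subgroup.zpowers_le]; exact mem_normalizer_of_cj_eq heq)
    have htop : Subgroup.normalizer (T : Set H) = ⊤ :=
      hmax _ h1 (fun hle => hxG (hle (mem_normalizer_of_cj_eq hxT')))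
    have hTbot := hcoreG T (Subgroup.normalizer_eq_top_iff.mp htop) hTG
    rw [hTbot, Subgroup.card_bot] at hTc
    have h2 := Nat.one_lt_two_pow (n := m + 1) (by omega)
    omega
  have hρT' : cj ρ⁻¹ T ≠ T := by
    intro heq
    have h1 := cj_inv_eq heq
    rw [inv_inv] at h1
    exact hρT h1
  have hnQ : ∀ σ ∈ G, ∀ v ∈ Q, σ * v * σ⁻¹ ∈ Q := by
    intro σ hσ v hv
    have h1 := hQn hσ
    rw [Subgroup.mem_normalizer_iff] at h1
    exact (h1 v).mp hv
  have hQcj : ∀ σ ∈ G, cj σ Q = Q := fun σ hσ => cj_eq_of_forall (hnQ σ hσ)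
  have hkey : ∀ σ ∈ G, cj σ T ≠ T → T ⊓ cj σ T = Q ∧ T ⊔ cj σ T = G := by
    intro σ hσ hne
    have hcjG : cj σ T ≤ G := by
      intro y hy
      obtain ⟨v, hv, rfl⟩ := exists_of_mem_cj hy
      exact G.mul_mem (G.mul_mem hσ (hTG hv)) (G.inv_mem hσ)
    have hQle : Q ≤ T ⊓ cj σ T := le_inf hQT (le_of_eq_of_le (hQcj σ hσ).symm (cj_mono hQT))
    have hnle : ¬ T ≤ cj σ T := by
      intro hle
      exact hne (Subgroup.eq_of_le_of_card_ge hle (by rw [card_cj])).symm
    constructor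
    · symm
      apply Subgroup.eq_of_le_of_card_ge hQle
      have hd : Nat.card (T ⊓ cj σ T : Subgroup H) ∣ Nat.card T :=
        Subgroup.card_dvd_of_le inf_le_left
      rw [hTc] at hd
      obtain ⟨j, hj, hjc⟩ := (Nat.dvd_prime_pow Nat.prime_two).mp hd
      rw [hjc, hQc]
      have hjne : j ≠ m + 1 := by
        intro hj'
        apply hnle
        have h1 : T ⊓ cj σ T = T :=
          Subgroup.eq_of_le_of_card_ge inf_le_left (by rw [hjc, hj', hTc])
        exact le_of_eq_of_le h1.symm inf_le_right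
      exact Nat.pow_le_pow_right (by norm_num) (by omega)
    · apply Subgroup.eq_of_le_of_card_ge (sup_le hTG hcjG)
      have hd1 : Nat.card T ∣ Nat.card (T ⊔ cj σ T : Subgroup H) :=
        Subgroup.card_dvd_of_le le_sup_left
      have hd2 : Nat.card (T ⊔ cj σ T : Subgroup H) ∣ Nat.card G :=
        Subgroup.card_dvd_of_le (sup_le hTG hcjG)
      obtain ⟨d, hd⟩ := hd1
      rw [hd, hGc, hTc] at hd2
      have hdq : d ∣ q := Nat.dvd_of_mul_dvd_mul_left (by positivity) hd2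
      rcases (Nat.dvd_prime hq).mp hdq with h1 | h1
      · exfalso
        apply hnle
        have h2 : T = T ⊔ cj σ T :=
          Subgroup.eq_of_le_of_card_ge le_sup_left (by rw [hd, h1, mul_one])
        have hle : cj σ T ≤ T := le_of_le_of_eq le_sup_right h2.symm
        exact (Subgroup.eq_of_le_of_card_ge hle (by rw [card_cj])).symm.le
      · rw [hd, h1, hGc, hTc]
  obtain ⟨hinf, hsupρ⟩ := hkey ρ hρG hρT
  obtain ⟨-, hsupρ'⟩ := hkey ρ⁻¹ (G.inv_mem hρG) hρT'
  obtain ⟨g, hgdef⟩ : ∃ g : H, g = x⁻¹ * ρ⁻¹ := ⟨_, rfl⟩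
  have hginv : g⁻¹ = ρ * x := by rw [hgdef]; group
  have hcg : cj g⁻¹ T = cj ρ T := by rw [hginv, cj_mul, hxT']
  have hc1 : MulAut.conj g⁻¹ • T = cj ρ T := by rw [conj_smul_eq_cj, hcg]
  have hc2 : MulAut.conj g • T = cj x⁻¹ (cj ρ⁻¹ T) := by
    rw [conj_smul_eq_cj, hgdef, cj_mul]
  have hc3 : MulAut.conj (g ^ 2)⁻¹ • T = cj g⁻¹ (cj ρ T) := by
    rw [conj_smul_eq_cj]
    have h1 : (g ^ 2)⁻¹ = g⁻¹ * g⁻¹ := by group
    rw [h1, cj_mul, hcg]
  have hgG : g⁻¹ ∉ G := by
    rw [hginv]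
    intro h
    apply hxG
    have h1 := G.mul_mem (G.inv_mem hρG) h
    rwa [inv_mul_cancel_left] at h1
  have hxG' : x⁻¹ ∉ G := fun h => hxG (by simpa using G.inv_mem h)
  have hcjρG : cj ρ T ≤ G := le_of_le_of_eq le_sup_right hsupρ
  obtain ⟨t, ht4, hTt⟩ := Cfsg.Agent.Lib.Helper49.Shunt.lemSimsCore H T g (by
      rw [hc1, hinf]
      have hle : Q ≤ cj ρ T := le_of_eq_of_le hinf.symm inf_le_right
      have h1 := card_mul_relIndex_of_le hle
      rw [card_cj, hTc, hQc, pow_succ] at h1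
      exact Nat.eq_of_mul_eq_mul_left (by positivity) h1) (by
    intro Y hYT hY1 hY2
    rw [hc1, hsupρ] at hY1
    have hYG : Y ≤ G := hYT.trans hTG
    rcases hY2 with hY2 | hY2
    · apply hL2 Y hYG x⁻¹ hxG' hY1
      rw [← hsupρ', cj_sup, hxT'']
      rw [hc2] at hY2
      exact sup_le (hTG.trans hY1) hY2
    · apply hL2 Y hYG g⁻¹ hgG hY1
      rw [← hsupρ, cj_sup, hcg]
      rw [hc3] at hY2
      exact sup_le (hcjρG.trans hY1) hY2)
  have hmt : m + 1 = t := Nat.pow_right_injective (le_refl 2) (hTc.symm.trans hTt)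
  have hm3 : m ≤ 3 := by omega
  -- counting fixed points of `ρ` on `Q`
  obtain ⟨F, hFdef⟩ : ∃ F : Subgroup H, F = Q ⊓ Subgroup.centralizer {ρ} := ⟨_, rfl⟩
  have hρnQ : ∀ v ∈ Q, ρ * v * ρ⁻¹ ∈ Q := hnQ ρ hρG
  have hmod := card_modEq_card_inf_centralizer (p := q) Q ρ hρnQ
    (by rw [← hρq]; exact pow_orderOf_eq_one ρ)
  rw [← hFdef, hQc] at hmod
  have hFQ : F ≤ Q := hFdef ▸ inf_le_left
  have hFne : F ≠ Q := by
    intro h
    apply hρQ
    apply hcent ρ hρG
    intro v hv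
    have hvF : v ∈ F := h ▸ hv
    rw [hFdef] at hvF
    exact (Subgroup.mem_centralizer_singleton_iff.mp hvF.2).symm
  have hFd : Nat.card F ∣ 2 ^ m := by
    rw [← hQc]
    exact Subgroup.card_dvd_of_le hFQ
  obtain ⟨j, hj, hjc⟩ := (Nat.dvd_prime_pow Nat.prime_two).mp hFd
  have hjm : j < m := by
    rcases Nat.lt_or_ge j m with h | h
    · exact h
    · exfalso
      apply hFne
      exact Subgroup.eq_of_le_of_card_ge hFQ
        (by rw [hjc, hQc]; exact Nat.pow_le_pow_right (by norm_num) h)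
  rw [hjc] at hmod
  have hdvd : q ∣ 2 ^ m - 2 ^ j :=
    (Nat.modEq_iff_dvd' (Nat.pow_le_pow_right (by norm_num) hjm.le)).mp hmod.symm
  have hq2' := hq.two_le
  have hcases : (q = 3 ∧ (m = 2 ∨ m = 3)) ∨ (q = 7 ∧ m = 3 ∧ j = 0) := by
    have hle : q ≤ 2 ^ m - 2 ^ j := by
      apply Nat.le_of_dvd _ hdvd
      have := Nat.pow_lt_pow_right (a := 2) (by norm_num) hjm
      omega
    interval_cases m <;> interval_cases j <;> norm_num at hdvd hle <;>
      interval_cases q <;> first | omega | (exfalso; revert hq; decide)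
  rcases hcases with ⟨hq3, hm⟩ | ⟨hq7, hm, hj0⟩
  · -- `q = 3`
    have hGc' : Nat.card G = 2 ^ (m + 1) * 3 := by rw [hGc, hq3]
    have hidx : (G ⊓ cj x G).relIndex G = 3 := by
      have hTle : T ≤ G ⊓ cj x G := le_inf hTG (le_of_eq_of_le hxT'.symm (cj_mono hTG))
      have h1 := Subgroup.relIndex_mul_relIndex (H := T) (K := G ⊓ cj x G) (L := G) hTle
        inf_le_left
      have h2 : T.relIndex G = 3 := by
        have h3 := card_mul_relIndex_of_le hTG
        rw [hTc, hGc'] at h3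
        exact Nat.eq_of_mul_eq_mul_left (by positivity) h3
      rw [h2] at h1
      have h3 : (G ⊓ cj x G).relIndex G ∣ 3 := Dvd.intro_left _ h1
      rcases (Nat.dvd_prime Nat.prime_three).mp h3 with h4 | h4
      · exfalso
        have h5 : G ≤ G ⊓ cj x G := Subgroup.relIndex_eq_one.mp h4
        have hle : G ≤ cj x G := h5.trans inf_le_right
        have heq : G = cj x G := Subgroup.eq_of_le_of_card_ge hle (by rw [card_cj])
        exact hL1 x hxG heq.symm.le
      · exact h4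
    have hgen : G ⊔ cj x G = ⊤ :=
      hmax _ le_sup_left (fun hle => hL1 x hxG (le_sup_right.trans hle))
    have hres := amalgam_core pkD12_inst pk24_inst pk8_inst pk48_inst G x (m + 1) (by omega)
      hGc' hidx hgen hcoreG
    have hG24 : Nat.card G = 24 ∨ Nat.card G = 48 := by
      rcases hm with hm | hm <;> rw [hGc', hm] <;> norm_num
    rcases hres with ⟨⟨e⟩⟩ | ⟨⟨e⟩⟩ | ⟨⟨e⟩⟩ | h | h
    · exfalso
      have h1 := Nat.card_congr e.toEquiv
      have h2 : Nat.card (Multiplicative (ZMod 3)) = 3 := Nat.card_zmod 3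
      omega
    · exfalso
      have h1 := Nat.card_congr e.toEquiv
      have h2 : Nat.card (Equiv.Perm (Fin 3)) = 6 := by
        rw [Nat.card_eq_fintype_card, Fintype.card_perm, Fintype.card_fin]
        rfl
      omega
    · exfalso
      have h1 := Nat.card_congr e.toEquiv
      have h2 : Nat.card (DihedralGroup 6) = 12 := by
        rw [DihedralGroup.nat_card]
      omega
    · exact Or.inl h
    · exact Or.inr h
  · -- `q = 7`
    exfalso
    have hQ8 : Nat.card Q = 8 := by rw [hQc, hm]; norm_num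
    have hT16 : Nat.card T = 16 := by rw [hTc, hm]; norm_num
    obtain ⟨τ, hτT, hτQ⟩ : ∃ τ ∈ T, τ ∉ Q := by
      by_contra hcon
      have h1 : T ≤ Q := fun v hv => by
        by_contra hvQ
        exact hcon ⟨v, hv, hvQ⟩
      have h2 := Subgroup.card_le_of_le h1
      omega
    have hτ2 : τ * τ ∈ Q := by
      have hidx : (Q.subgroupOf T).index = 2 := by
        have h1 := card_mul_relIndex_of_le hQT
        rw [hQ8, hT16] at h1
        unfold Subgroup.relIndex at h1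
        omega
      have h2 := Subgroup.mul_self_mem_of_index_two hidx ⟨τ, hτT⟩
      exact Subgroup.mem_subgroupOf.mp h2
    have hτn : ∀ v ∈ Q, τ * v * τ⁻¹ ∈ Q := hnQ τ (hTG hτT)
    have hF1 : ∀ v ∈ Q, ρ * v = v * ρ → v = 1 := by
      intro v hv hcomm
      have hvF : v ∈ F := by
        rw [hFdef]
        exact ⟨hv, Subgroup.mem_centralizer_singleton_iff.mpr hcomm.symm⟩
      have hFbot : F = ⊥ := Subgroup.card_eq_one.mp (by rw [hjc, hj0]; norm_num)
      rw [hFbot] at hvF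
      exact Subgroup.mem_bot.mp hvF
    exact h7 H Q hQ8 ρ τ hρnQ hτn (by rw [← hq7, ← hρq]; exact pow_orderOf_eq_one ρ) hF1 hτ2
      (hinv ρ hρG τ hτT hτQ hρq)

end Cfsg.Agent.Lib.Helper67.Sub3
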