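import Mathlib
import Cfsg.Prelude.Def_PLocal
import Cfsg.Agent.Lib.Helper67.Sub3.Local
import Cfsg.Agent.Lib.Helper67.Sub3.NoD14
import Cfsg.Agent.Lib.Helper84.PCoreBasic

/-!
# Sims' theorem in local form (S2772): translation from the frozen hypotheses

`s2772_main` is the frozen statement of S2772 (without the unused hypothesis that `H` is not
commutative), obtained from the abstract core `s2772_abs` and the package `no_d14`.
-/

set_option autoImplicit false

universe u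

namespace Cfsg.Agent.Lib.Helper67.Sub3

theorem pk7_inst : PK7.{u} :=
  fun _ _ Q hQ ρ t hρn htn hρ7 hfix ht2 hinv => no_d14 Q hQ ρ t hρn htn hρ7 hfix ht2 hinv

/-- in a dihedral group of order `2q`, `q` an odd prime, a nontrivial `2`-element inverts every
element of order dividing `q` -/
theorem dihedral_rel {q : ℕ} (hq : q.Prime) (hq2 : q ≠ 2) (a b : DihedralGroup q)
    (ha : a ^ q = 1) (hb1 : b ≠ 1) (k : ℕ) (hb : b ^ (2 ^ k) = 1) : b * a * b⁻¹ * a = 1 := by
  have hqF : Fact q.Prime := ⟨hq⟩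
  have hqodd : ¬ 2 ∣ q :=
    fun h => hq2 ((Nat.prime_dvd_prime_iff_eq Nat.prime_two hq).mp h).symm
  cases a with
  | r i =>
    cases b with
    | r j =>
      exfalso
      rw [DihedralGroup.r_pow, DihedralGroup.one_def] at hb
      have h1 : j * ((2 ^ k : ℕ) : ZMod q) = 0 := DihedralGroup.r.inj hb
      rcases mul_eq_zero.mp h1 with h2 | h2
      · exact hb1 (by rw [h2, DihedralGroup.r_zero])
      · rw [ZMod.natCast_eq_zero_iff] at h2
        exact hq2 ((Nat.prime_dvd_prime_iff_eq hq Nat.prime_two).mp (hq.dvd_of_dvd_pow h2))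
    | sr j =>
      rw [DihedralGroup.inv_sr, DihedralGroup.sr_mul_r, DihedralGroup.sr_mul_sr,
        DihedralGroup.r_mul_r, DihedralGroup.one_def]
      congr 1
      ring
  | sr i =>
    exfalso
    have h1 : orderOf (DihedralGroup.sr i) ∣ q := orderOf_dvd_of_pow_eq_one ha
    rw [DihedralGroup.orderOf_sr] at h1
    exact hqodd h1

/-- S2772 -/
theorem s2772_main {H : Type u} [Group H] [Finite H] [IsSimpleGroup H] (G : Subgroup H)
    (hG : IsCoatom G)
    (hchar : Subgroup.centralizer (Cfsg.pCore 2 ↥G : Set ↥G) ≤ Cfsg.pCore 2 ↥G) (S : Sylow 2 ↥G)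
    (hN : ¬ Subgroup.normalizer (((S : Subgroup ↥G).map G.subtype : Subgroup H) : Set H) ≤ G)
    (q : ℕ) (hq : q.Prime) (hD : Nonempty (↥G ⧸ Cfsg.pCore 2 ↥G ≃* DihedralGroup q)) :
    Nonempty (↥G ≃* Equiv.Perm (Fin 4)) ∨
      Nonempty (↥G ≃* Equiv.Perm (Fin 4) × Multiplicative (ZMod 2)) := by
  classical
  obtain ⟨e⟩ := hD
  have h2F : Fact (Nat.Prime 2) := ⟨Nat.prime_two⟩
  have hR2 : IsPGroup 2 (Cfsg.pCore 2 ↥G) := Cfsg.Agent.Lib.Helper84.pCore_isPGroup 2 ↥G
  have hRS : Cfsg.pCore 2 ↥G ≤ (S : Subgroup ↥G) := Cfsg.Agent.Lib.Helper84.pCore_le_sylow 2 S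
  have hidx : (Cfsg.pCore 2 ↥G).index = 2 * q := by
    rw [Subgroup.index, Nat.card_congr e.toEquiv, DihedralGroup.nat_card]
  have hcG : Nat.card (Cfsg.pCore 2 ↥G) * (2 * q) = Nat.card G := by
    rw [← hidx]
    exact Subgroup.card_mul_index _
  obtain ⟨a, ha⟩ := IsPGroup.iff_card.mp hR2
  have hq2 : q ≠ 2 := by
    intro h
    rw [h, ha] at hcG
    have hG2 : IsPGroup 2 ↥G := IsPGroup.of_card (n := a + 2) (by rw [← hcG, pow_add]; norm_num)
    have htop : (⊤ : Subgroup ↥G) ≤ Cfsg.pCore 2 ↥G :=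
      Cfsg.Agent.Lib.Helper84.le_pCore inferInstance (hG2.to_subgroup ⊤)
    have h1 : Cfsg.pCore 2 ↥G = ⊤ := top_le_iff.mp htop
    rw [h1, Subgroup.index_top] at hidx
    have := hq.two_le
    omega
  have hS2 : IsPGroup 2 (S : Subgroup ↥G) := S.isPGroup'
  obtain ⟨s, hs⟩ := IsPGroup.iff_card.mp hS2
  have hcS : Nat.card (S : Subgroup ↥G) = 2 * Nat.card (Cfsg.pCore 2 ↥G) := by
    rw [hs, ha]
    have hcop : Nat.Coprime (2 ^ s) q :=
      Nat.Coprime.pow_left _ ((Nat.coprime_primes Nat.prime_two hq).mpr (Ne.symm hq2))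
    have h1 : 2 ^ s ∣ Nat.card G := by
      rw [← hs]
      exact Subgroup.card_subgroup_dvd_card _
    rw [← hcG, ha] at h1
    have h1' : 2 ^ s ∣ 2 ^ (a + 1) * q := by
      have h0 : 2 ^ (a + 1) * q = 2 ^ a * (2 * q) := by rw [pow_succ]; ring
      rw [h0]
      exact h1
    have h2 : 2 ^ s ∣ 2 ^ (a + 1) := hcop.dvd_of_dvd_mul_right h1'
    have h3 : s ≤ a + 1 := (Nat.pow_dvd_pow_iff_le_right (by norm_num)).mp h2
    have h4 : ¬ 2 ∣ (S : Subgroup ↥G).index := S.not_dvd_index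
    have h5 := Subgroup.card_mul_index (S : Subgroup ↥G)
    rw [hs, ← hcG, ha] at h5
    have h6 : a + 1 ≤ s := by
      by_contra hcon
      apply h4
      have h7 : 2 ^ a = 2 ^ s * 2 ^ (a - s) := by
        rw [← pow_add]
        congr 1
        omega
      rw [h7] at h5
      have h8 : (S : Subgroup ↥G).index = 2 ^ (a - s) * (2 * q) :=
        Nat.eq_of_mul_eq_mul_left (show 0 < 2 ^ s by positivity) (by rw [h5]; ring)
      rw [h8]
      exact dvd_mul_of_dvd_right (dvd_mul_right 2 q) _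
    have h9 : s = a + 1 := le_antisymm h3 h6
    rw [h9, pow_succ]
    ring
  -- the subgroups of `H`
  obtain ⟨Q, hQdef⟩ : ∃ Q : Subgroup H, Q = (Cfsg.pCore 2 ↥G).map G.subtype := ⟨_, rfl⟩
  obtain ⟨T, hTdef⟩ : ∃ T : Subgroup H, T = (S : Subgroup ↥G).map G.subtype := ⟨_, rfl⟩
  rw [← hTdef] at hN
  have hQT : Q ≤ T := by
    rw [hQdef, hTdef]
    exact Subgroup.map_mono hRS
  have hTG : T ≤ G := by
    rw [hTdef]
    exact Subgroup.map_subtype_le _
  have hQG : Q ≤ G := hQT.trans hTG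
  have hmemQ : ∀ g : ↥G, (g : H) ∈ Q ↔ g ∈ Cfsg.pCore 2 ↥G := by
    intro g
    rw [hQdef]
    constructor
    · rintro ⟨r, hr, hrg⟩
      have h1 : r = g := Subtype.ext hrg
      rwa [← h1]
    · intro hg
      exact ⟨g, hg, rfl⟩
  have hcQ : Nat.card Q = Nat.card (Cfsg.pCore 2 ↥G) := by
    rw [hQdef]
    exact Subgroup.card_map_of_injective (Subgroup.subtype_injective G)
  have hcT : Nat.card T = Nat.card (S : Subgroup ↥G) := by
    rw [hTdef]
    exact Subgroup.card_map_of_injective (Subgroup.subtype_injective G)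
  have hT2 : IsPGroup 2 T := by
    rw [hTdef]
    exact hS2.map G.subtype
  have hQn : G ≤ Subgroup.normalizer (Q : Set H) := by
    apply le_normalizer_of_forall
    intro p hp v hv
    have h1 : (⟨v, hQG hv⟩ : ↥G) ∈ Cfsg.pCore 2 ↥G := (hmemQ ⟨v, hQG hv⟩).mp hv
    have h2 := (Cfsg.pCore_normal 2 ↥G).conj_mem _ h1 ⟨p, hp⟩
    exact (hmemQ _).mpr h2
  have hcent : ∀ g ∈ G, (∀ v ∈ Q, g * v = v * g) → g ∈ Q := by
    intro g hg hgc
    apply (hmemQ ⟨g, hg⟩).mpr
    apply hchar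
    rw [Subgroup.mem_centralizer_iff]
    intro r hr
    apply Subtype.ext
    exact (hgc (r : H) ((hmemQ r).mpr hr)).symm
  obtain ⟨x, hxN, hxG⟩ := SetLike.not_le_iff_exists.mp hN
  have hxT : ∀ v ∈ T, x * v * x⁻¹ ∈ T := by
    intro v hv
    rw [Subgroup.mem_normalizer_iff] at hxN
    exact (hxN v).mp hv
  have hinv : ∀ ρ ∈ G, ∀ t ∈ T, t ∉ Q → orderOf ρ = q → t * ρ * t⁻¹ * ρ ∈ Q := by
    intro ρ hρ t ht htQ hρq
    obtain ⟨k, hk⟩ := hT2 ⟨t, ht⟩
    have hk' : t ^ (2 ^ k) = 1 := by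
      have h1 := congrArg Subtype.val hk
      exact h1
    have hrel := dihedral_rel hq hq2
      (e (QuotientGroup.mk (⟨ρ, hρ⟩ : ↥G))) (e (QuotientGroup.mk (⟨t, hTG ht⟩ : ↥G)))
      (by
        rw [← map_pow, ← QuotientGroup.mk_pow]
        have h1 : (⟨ρ, hρ⟩ : ↥G) ^ q = 1 := by
          apply Subtype.ext
          show ρ ^ q = 1
          rw [← hρq]
          exact pow_orderOf_eq_one ρ
        rw [h1, QuotientGroup.mk_one, map_one])
      (by
        intro h1
        have h2 := (MulEquiv.map_eq_one_iff e).mp h1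
        rw [QuotientGroup.eq_one_iff] at h2
        exact htQ ((hmemQ _).mpr h2))
      k
      (by
        rw [← map_pow, ← QuotientGroup.mk_pow]
        have h1 : (⟨t, hTG ht⟩ : ↥G) ^ (2 ^ k) = 1 := by
          apply Subtype.ext
          show t ^ (2 ^ k) = 1
          exact hk'
        rw [h1, QuotientGroup.mk_one, map_one])
    rw [← map_inv, ← map_mul, ← map_mul, ← map_mul, ← QuotientGroup.mk_inv,
      ← QuotientGroup.mk_mul, ← QuotientGroup.mk_mul, ← QuotientGroup.mk_mul] at hrel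
    have h2 := (MulEquiv.map_eq_one_iff e).mp hrel
    rw [QuotientGroup.eq_one_iff] at h2
    exact (hmemQ _).mpr h2
  exact s2772_abs pk7_inst G hG Q T hQT hTG hQn hT2 q hq hq2 (by rw [hcT, hcS, hcQ])
    (by rw [hcQ, ← hcG]; ring) hcent x hxT hxG hinv

end Cfsg.Agent.Lib.Helper67.Sub3
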